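import Cfsg.Agent.H614.Spin.Defs
set_option linter.all false

-- part: H614/Spin/Shift
section
/-!
# Spin combinatorics: the shift operators `sh` and the vacuum function `V`

* `sh_comm`, `sh_inv` : the operators commute and `U(t) U(-t) = 1`;
* `V_swap` : the Clifford relation for `V`;
* `V_append_neg`, `V_append_zero`.
-/

set_option autoImplicit false

namespace Cfsg.Agent.H614.Spin

open Finset

theorem mem_ad {n : ℕ} {x : ℕ × ℕ} : x ∈ antidiagonal n ↔ x.1 + x.2 = n :=
  HasAntidiagonal.mem_antidiagonal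

/-! ### Signs -/

/-- the sign `(-1) ^ a` of an integer -/
def sgn (a : ℤ) : ℤ := (-1) ^ a.natAbs

theorem sgn_def (a : ℤ) : sgn a = (-1) ^ a.natAbs := rfl

theorem sgn_even {a : ℤ} (h : Even a) : sgn a = 1 := by
  rw [sgn_def]; exact Even.neg_one_pow (Int.natAbs_even.mpr h)

theorem sgn_odd {a : ℤ} (h : Odd a) : sgn a = -1 := by
  rw [sgn_def]; exact Odd.neg_one_pow (Int.natAbs_odd.mpr h)

theorem sgn_add (a b : ℤ) : sgn (a + b) = sgn a * sgn b := by
  rcases Int.even_or_odd a with ha | ha <;> rcases Int.even_or_odd b with hb | hb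
  · rw [sgn_even ha, sgn_even hb, sgn_even (ha.add hb)]; rfl
  · rw [sgn_even ha, sgn_odd hb, sgn_odd (ha.add_odd hb)]; rfl
  · rw [sgn_odd ha, sgn_even hb, sgn_odd (ha.add_even hb)]; rfl
  · rw [sgn_odd ha, sgn_odd hb, sgn_even (ha.add_odd hb)]; rfl

theorem sgn_neg (a : ℤ) : sgn (-a) = sgn a := by rw [sgn_def, sgn_def, Int.natAbs_neg]

theorem sgn_sub (a b : ℤ) : sgn (a - b) = sgn a * sgn b := by
  rw [sub_eq_add_neg, sgn_add, sgn_neg]

@[simp] theorem sgn_zero : sgn 0 = 1 := rfl

theorem sgn_mul_self (a : ℤ) : sgn a * sgn a = 1 := by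
  rw [← sgn_add]; exact sgn_even (by exact ⟨a, rfl⟩)

theorem sgn_natCast (k : ℕ) : sgn (k : ℤ) = (-1) ^ k := by rw [sgn_def, Int.natAbs_natCast]

theorem cf_eq {k : ℕ} (h : k ≠ 0) : cf k = 2 * sgn (k : ℤ) := by rw [cf_pos h, sgn_natCast]

/-! ### Linearity -/

theorem sh_add (L : List ℤ) (u : ℕ) (g g' : List ℤ → ℤ) :
    sh L u (fun M => g M + g' M) = sh L u g + sh L u g' := by
  induction L generalizing u g g' with
  | nil => rw [sh_nil, sh_nil, sh_nil]; split_ifs <;> simp
  | cons b L ih =>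
    rw [sh_cons, sh_cons, sh_cons, ← Finset.sum_add_distrib]
    refine Finset.sum_congr rfl fun x _ => ?_
    rw [ih]; ring

theorem sh_mul (L : List ℤ) (u : ℕ) (c : ℤ) (g : List ℤ → ℤ) :
    sh L u (fun M => c * g M) = c * sh L u g := by
  induction L generalizing u g with
  | nil => rw [sh_nil, sh_nil]; split_ifs <;> simp
  | cons b L ih =>
    rw [sh_cons, sh_cons, Finset.mul_sum]
    refine Finset.sum_congr rfl fun x _ => ?_
    rw [ih]; ring

theorem sh_zero (L : List ℤ) (u : ℕ) : sh L u (fun _ => 0) = 0 := by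
  have := sh_mul L u 0 (fun _ => 0)
  simpa using this

theorem sh_sum {ι : Type*} (L : List ℤ) (u : ℕ) (t : Finset ι) (g : ι → List ℤ → ℤ) :
    sh L u (fun M => ∑ i ∈ t, g i M) = ∑ i ∈ t, sh L u (g i) := by
  classical
  induction t using Finset.induction_on with
  | empty => simp [sh_zero]
  | insert a t ha ih => simp only [Finset.sum_insert ha]; rw [sh_add, ih]

theorem sh_at_zero (L : List ℤ) (g : List ℤ → ℤ) : sh L 0 g = g L := by
  induction L generalizing g with
  | nil => rfl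
  | cons b L ih => rw [sh_cons]; simp [ih]

/-! ### Commutation and inversion -/

theorem sh_comm (L : List ℤ) (u v : ℕ) (g : List ℤ → ℤ) :
    sh L u (fun M => sh M v g) = sh L v (fun M => sh M u g) := by
  induction L generalizing u v g with
  | nil =>
    rw [sh_nil, sh_nil, sh_nil, sh_nil]
    split_ifs <;> rfl
  | cons b L ih =>
    have e : ∀ u v : ℕ, sh (b :: L) u (fun M => sh M v g) =
        ∑ x ∈ antidiagonal u, ∑ y ∈ antidiagonal v, cf x.1 * cf y.1 *
          sh L x.2 (fun M => sh M y.2 (fun N => g ((b - x.1 - y.1) :: N))) := by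
      intro u v
      rw [sh_cons]
      refine Finset.sum_congr rfl fun x _ => ?_
      simp only [sh_cons]
      rw [sh_sum, Finset.mul_sum]
      refine Finset.sum_congr rfl fun y _ => ?_
      rw [sh_mul]; ring
    rw [e, e, Finset.sum_comm]
    refine Finset.sum_congr rfl fun y _ => Finset.sum_congr rfl fun x _ => ?_
    rw [ih, show b - (x.1 : ℤ) - y.1 = b - y.1 - x.1 by ring]
    ring

theorem cf_succ_add (k : ℕ) : cf (k + 1) + cf k = if k = 0 then -1 else 0 := by
  split_ifs with h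
  · subst h; rfl
  · rw [cf_pos (by omega), cf_pos h, pow_succ]; ring

theorem neg_pow_mul_cf {k : ℕ} (h : k ≠ 0) : (-1 : ℤ) ^ k * cf k = 2 := by
  rw [cf_pos h, mul_left_comm, ← mul_pow]; norm_num

/-- `(1 - t)/(1 + t)` at `t` and `-t` -/
theorem cf_conv (c : ℕ) :
    ∑ x ∈ antidiagonal c, (-1) ^ x.1 * cf x.1 * cf x.2 = if c = 0 then (1 : ℤ) else 0 := by
  have step : ∀ c : ℕ, ∑ x ∈ antidiagonal (c + 1), (-1) ^ x.1 * cf x.1 * cf x.2 +
      ∑ x ∈ antidiagonal c, (-1) ^ x.1 * cf x.1 * cf x.2 =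
      (-1 : ℤ) ^ (c + 1) * cf (c + 1) - (-1) ^ c * cf c := by
    intro c
    rw [Finset.Nat.sum_antidiagonal_succ', add_assoc, ← Finset.sum_add_distrib]
    have h1 : ∑ x ∈ antidiagonal c, ((-1 : ℤ) ^ x.1 * cf x.1 * cf (x.2 + 1) +
        (-1) ^ x.1 * cf x.1 * cf x.2) = - ((-1) ^ c * cf c) := by
      rw [Finset.sum_eq_single (c, 0)]
      · have h := cf_succ_add 0
        rw [if_pos rfl] at h
        linear_combination ((-1 : ℤ) ^ c * cf c) * h
      · rintro ⟨i, j⟩ hx hne
        have hj : j ≠ 0 := by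
          rintro rfl
          rw [mem_ad] at hx
          exact hne (by simp at hx; rw [hx])
        have h := cf_succ_add j
        rw [if_neg hj] at h
        dsimp only
        linear_combination ((-1 : ℤ) ^ i * cf i) * h
      · intro h; exact absurd (by simp) h
    rw [h1]
    simp only [cf_zero]
    ring
  have key : ∀ c : ℕ, ∑ x ∈ antidiagonal (c + 1), (-1) ^ x.1 * cf x.1 * cf x.2 = (0 : ℤ) := by
    intro c
    induction c with
    | zero =>
      have h := step 0
      rw [neg_pow_mul_cf (by norm_num)] at h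
      simp at h ⊢
      linarith
    | succ c ih =>
      have h := step (c + 1)
      rw [ih, neg_pow_mul_cf (by omega), neg_pow_mul_cf (by omega)] at h
      linarith
  rcases c with _ | c
  · simp
  · rw [if_neg (by omega)]; exact key c

theorem quad {R : Type*} [AddCommMonoid R] (T : ℕ → ℕ → ℕ → ℕ → R) (c : ℕ) :
    ∑ x ∈ antidiagonal c, ∑ y ∈ antidiagonal x.1, ∑ w ∈ antidiagonal x.2, T y.1 y.2 w.1 w.2 =
      ∑ x ∈ antidiagonal c, ∑ y ∈ antidiagonal x.1, ∑ w ∈ antidiagonal x.2, T y.1 w.1 y.2 w.2 := by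
  simp only [Finset.sum_sigma']
  refine Finset.sum_nbij' (i := fun q => ⟨(q.2.1.1 + q.2.2.1, q.2.1.2 + q.2.2.2),
      ⟨(q.2.1.1, q.2.2.1), (q.2.1.2, q.2.2.2)⟩⟩)
    (j := fun q => ⟨(q.2.1.1 + q.2.2.1, q.2.1.2 + q.2.2.2),
      ⟨(q.2.1.1, q.2.2.1), (q.2.1.2, q.2.2.2)⟩⟩)
    ?_ ?_ ?_ ?_ ?_
  · rintro ⟨⟨a, b⟩, ⟨⟨d, e⟩, ⟨f, g⟩⟩⟩ h
    simp only [Finset.mem_sigma, mem_ad] at h ⊢
    obtain ⟨h1, h2, h3⟩ := h
    refine ⟨?_, trivial, trivial⟩
    omega
  · rintro ⟨⟨a, b⟩, ⟨⟨d, e⟩, ⟨f, g⟩⟩⟩ h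
    simp only [Finset.mem_sigma, mem_ad] at h ⊢
    obtain ⟨h1, h2, h3⟩ := h
    refine ⟨?_, trivial, trivial⟩
    omega
  · rintro ⟨⟨a, b⟩, ⟨⟨d, e⟩, ⟨f, g⟩⟩⟩ h
    simp only [Finset.mem_sigma, mem_ad] at h
    obtain ⟨h1, h2, h3⟩ := h
    subst h2 h3
    rfl
  · rintro ⟨⟨a, b⟩, ⟨⟨d, e⟩, ⟨f, g⟩⟩⟩ h
    simp only [Finset.mem_sigma, mem_ad] at h
    obtain ⟨h1, h2, h3⟩ := h
    subst h2 h3
    rfl
  · rintro ⟨⟨a, b⟩, ⟨⟨d, e⟩, ⟨f, g⟩⟩⟩ h
    rfl

/-- `U(t) U(-t) = 1` -/
theorem sh_inv (L : List ℤ) (c : ℕ) (g : List ℤ → ℤ) :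
    ∑ x ∈ antidiagonal c, (-1) ^ x.1 * sh L x.1 (fun M => sh M x.2 g) = if c = 0 then g L else 0 := by
  induction L generalizing c g with
  | nil =>
    simp only [sh_nil]
    rw [Finset.sum_eq_single (0, c)]
    · simp
    · rintro ⟨i, j⟩ hx hne
      have hi : i ≠ 0 := by
        rintro rfl
        rw [mem_ad] at hx
        exact hne (by simp at hx; rw [hx])
      simp [hi]
    · intro h; exact absurd (by simp) h
  | cons b L ih =>
    have e : ∀ x ∈ antidiagonal c, (-1 : ℤ) ^ x.1 * sh (b :: L) x.1 (fun M => sh M x.2 g) =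
        ∑ y ∈ antidiagonal x.1, ∑ w ∈ antidiagonal x.2, ((-1) ^ y.1 * cf y.1 * cf w.1) *
          ((-1) ^ y.2 * sh L y.2 (fun M => sh M w.2 (fun N => g ((b - y.1 - w.1) :: N)))) := by
      intro x _
      rw [sh_cons, Finset.mul_sum]
      refine Finset.sum_congr rfl fun y hy => ?_
      simp only [sh_cons]
      rw [sh_sum, Finset.mul_sum, Finset.mul_sum]
      refine Finset.sum_congr rfl fun w _ => ?_
      rw [sh_mul, ← mem_ad.mp hy, pow_add]; ring
    rw [Finset.sum_congr rfl e, quad (fun y1 y2 w1 w2 => ((-1) ^ y1 * cf y1 * cf w1) *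
          ((-1) ^ y2 * sh L y2 (fun M => sh M w2 (fun N => g ((b - y1 - w1) :: N)))))]
    have e2 : ∀ x ∈ antidiagonal c, (∑ y ∈ antidiagonal x.1, ∑ w ∈ antidiagonal x.2,
        ((-1 : ℤ) ^ y.1 * cf y.1 * cf y.2) *
          ((-1) ^ w.1 * sh L w.1 (fun M => sh M w.2 (fun N => g ((b - y.1 - y.2) :: N))))) =
        if x.2 = 0 then (if x.1 = 0 then g (b :: L) else 0) else 0 := by
      intro x _
      have e3 : ∀ y ∈ antidiagonal x.1, (∑ w ∈ antidiagonal x.2, ((-1 : ℤ) ^ y.1 * cf y.1 * cf y.2) *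
          ((-1) ^ w.1 * sh L w.1 (fun M => sh M w.2 (fun N => g ((b - y.1 - y.2) :: N))))) =
          ((-1 : ℤ) ^ y.1 * cf y.1 * cf y.2) * (if x.2 = 0 then g ((b - x.1) :: L) else 0) := by
        intro y hy
        rw [← Finset.mul_sum, ih, ← mem_ad.mp hy]
        push_cast
        rw [sub_sub]
      rw [Finset.sum_congr rfl e3, ← Finset.sum_mul, cf_conv]
      split_ifs with h1 h2 h2
      · rw [h1]; simp
      · simp
      · simp
      · simp
    rw [Finset.sum_congr rfl e2, Finset.sum_eq_single (c, 0)]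
    · simp
    · rintro ⟨i, j⟩ hx hne
      have hj : j ≠ 0 := by
        rintro rfl
        rw [mem_ad] at hx
        exact hne (by simp at hx; rw [hx])
      simp [hj]
    · intro h; exact absurd (by simp) h

/-! ### The Clifford relation -/

theorem trip {R : Type*} [AddCommMonoid R] (T : ℕ → ℕ → ℕ → R) (c : ℕ) :
    ∑ x ∈ antidiagonal c, ∑ y ∈ antidiagonal x.2, T x.1 y.1 y.2 =
      ∑ x ∈ antidiagonal c, ∑ y ∈ antidiagonal x.1, T y.1 y.2 x.2 := by
  simp only [Finset.sum_sigma']
  refine Finset.sum_nbij' (i := fun q => ⟨(q.1.1 + q.2.1, q.2.2), (q.1.1, q.2.1)⟩)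
    (j := fun q => ⟨(q.2.1, q.2.2 + q.1.2), (q.2.2, q.1.2)⟩) ?_ ?_ ?_ ?_ ?_
  · rintro ⟨⟨a, b⟩, ⟨d, e⟩⟩ h
    simp only [Finset.mem_sigma, mem_ad] at h ⊢
    obtain ⟨h1, h2⟩ := h
    refine ⟨?_, trivial⟩
    omega
  · rintro ⟨⟨a, b⟩, ⟨d, e⟩⟩ h
    simp only [Finset.mem_sigma, mem_ad] at h ⊢
    obtain ⟨h1, h2⟩ := h
    refine ⟨?_, trivial⟩
    omega
  · rintro ⟨⟨a, b⟩, ⟨d, e⟩⟩ h
    simp only [Finset.mem_sigma, mem_ad] at h
    obtain ⟨h1, h2⟩ := h
    subst h2
    rfl
  · rintro ⟨⟨a, b⟩, ⟨d, e⟩⟩ h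
    simp only [Finset.mem_sigma, mem_ad] at h
    obtain ⟨h1, h2⟩ := h
    subst h2
    rfl
  · rintro ⟨⟨a, b⟩, ⟨d, e⟩⟩ h
    rfl

/-- the Clifford relation for a function on lists, at position `n` -/
def Cliff (g g' : List ℤ → ℤ) (n n₂ : ℕ) : Prop :=
  ∀ (M₁ : List ℤ) (x y : ℤ) (M₂ : List ℤ), M₁.length = n → M₂.length = n₂ →
    g (M₁ ++ x :: y :: M₂) + g (M₁ ++ y :: x :: M₂) =
      if x + y = 0 then 2 * sgn x * g' (M₁ ++ M₂) else 0

theorem sh_adj {g g' : List ℤ → ℤ} {n n₂ : ℕ} (hg : Cliff g g' n n₂) (u : ℕ) :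
    Cliff (fun L => sh L u g) (fun L => sh L u g') n n₂ := by
  induction n generalizing g g' u with
  | zero =>
    intro L₁ a b L₂ h1 h2
    obtain rfl : L₁ = [] := List.length_eq_zero_iff.mp h1
    simp only [List.nil_append]
    have e : ∀ a b : ℤ, sh (a :: b :: L₂) u g = ∑ x ∈ antidiagonal u, ∑ y ∈ antidiagonal x.1,
        cf y.1 * cf y.2 * sh L₂ x.2 (fun M => g ((a - y.1) :: (b - y.2) :: M)) := by
      intro a b
      rw [← trip (fun y1 y2 x2 => cf y1 * cf y2 * sh L₂ x2 (fun M => g ((a - y1) :: (b - y2) :: M))),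
        sh_cons]
      refine Finset.sum_congr rfl fun x _ => ?_
      rw [sh_cons, Finset.mul_sum]
      refine Finset.sum_congr rfl fun y _ => ?_
      ring
    have e' : sh (b :: a :: L₂) u g = ∑ x ∈ antidiagonal u, ∑ y ∈ antidiagonal x.1,
        cf y.1 * cf y.2 * sh L₂ x.2 (fun M => g ((b - y.2) :: (a - y.1) :: M)) := by
      rw [e]
      refine Finset.sum_congr rfl fun x _ => ?_
      rw [← Finset.Nat.sum_antidiagonal_swap]
      refine Finset.sum_congr rfl fun y _ => ?_
      simp only [Prod.fst_swap, Prod.snd_swap]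
      ring
    rw [e, e', ← Finset.sum_add_distrib]
    have e2 : ∀ x ∈ antidiagonal u, (∑ y ∈ antidiagonal x.1,
        cf y.1 * cf y.2 * sh L₂ x.2 (fun M => g ((a - y.1) :: (b - y.2) :: M))) +
        (∑ y ∈ antidiagonal x.1,
          cf y.1 * cf y.2 * sh L₂ x.2 (fun M => g ((b - y.2) :: (a - y.1) :: M))) =
        if x.1 = 0 then (if a + b = 0 then 2 * sgn a * sh L₂ x.2 g' else 0) else 0 := by
      intro x _
      rw [← Finset.sum_add_distrib]
      have e3 : ∀ y ∈ antidiagonal x.1,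
          cf y.1 * cf y.2 * sh L₂ x.2 (fun M => g ((a - y.1) :: (b - y.2) :: M)) +
          cf y.1 * cf y.2 * sh L₂ x.2 (fun M => g ((b - y.2) :: (a - y.1) :: M)) =
          ((-1) ^ y.1 * cf y.1 * cf y.2) *
            (if a + b = x.1 then 2 * sgn a * sh L₂ x.2 g' else 0) := by
        intro y hy
        rw [← mul_add, ← sh_add]
        have e4 : sh L₂ x.2 (fun M => g ((a - y.1) :: (b - y.2) :: M) +
            g ((b - y.2) :: (a - y.1) :: M)) = sh L₂ x.2 (fun M =>
              (if a + b = x.1 then 2 * sgn a * (-1) ^ y.1 else 0) * g' M) := by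
          refine sh_congr fun M hM => ?_
          have h3 := hg [] (a - y.1) (b - y.2) M rfl (by rw [hM, h2])
          simp only [List.nil_append] at h3
          rw [h3]
          have h4 : a - (y.1 : ℤ) + (b - y.2) = 0 ↔ a + b = x.1 := by
            have := mem_ad.mp hy
            omega
          by_cases h5 : a + b = x.1
          · rw [if_pos h5, if_pos (h4.mpr h5), sgn_sub, sgn_natCast]; ring
          · rw [if_neg h5, if_neg (fun h => h5 (h4.mp h))]; ring
        rw [e4, sh_mul]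
        split_ifs <;> ring
      rw [Finset.sum_congr rfl e3, ← Finset.sum_mul, cf_conv]
      split_ifs with h5 h6 h7 h7
      · ring
      · rw [h5] at h6; simp at h6; exact absurd h6 h7
      · rw [h5] at h6; simp at h6; exact absurd h7 h6
      · ring
      · ring
      · ring
    rw [Finset.sum_congr rfl e2, Finset.sum_eq_single (0, u)]
    · simp
    · rintro ⟨i, j⟩ hx hne
      have hi : i ≠ 0 := by
        rintro rfl
        rw [mem_ad] at hx
        exact hne (by simp at hx; rw [hx])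
      simp [hi]
    · intro h; exact absurd (by simp) h
  | succ n ih =>
    intro L₁ a b L₂ h1 h2
    obtain ⟨c, L₁, rfl⟩ : ∃ c L, L₁ = c :: L := List.exists_cons_of_length_eq_add_one h1
    simp only [List.cons_append]
    have h1' : L₁.length = n := by simpa using h1
    rw [sh_cons, sh_cons, sh_cons, ← Finset.sum_add_distrib]
    have e : ∀ x ∈ antidiagonal u,
        cf x.1 * sh (L₁ ++ a :: b :: L₂) x.2 (fun M => g ((c - x.1) :: M)) +
        cf x.1 * sh (L₁ ++ b :: a :: L₂) x.2 (fun M => g ((c - x.1) :: M)) =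
        if a + b = 0 then 2 * sgn a * (cf x.1 * sh (L₁ ++ L₂) x.2 (fun M => g' ((c - x.1) :: M)))
          else 0 := by
      intro x _
      have hg' : Cliff (fun M => g ((c - x.1) :: M)) (fun M => g' ((c - x.1) :: M)) n n₂ := by
        intro M₁ s t M₂ h3 h4
        exact hg ((c - x.1) :: M₁) s t M₂ (by simp [h3]) h4
      have h3 := ih hg' x.2 L₁ a b L₂ h1' h2
      simp only at h3
      rw [← mul_add, h3]
      split_ifs <;> ring
    rw [Finset.sum_congr rfl e]
    split_ifs with h3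
    · rw [Finset.mul_sum]
    · simp

/-- `U a g L` : zero for `a > 0`, otherwise `sh L |a| g` -/
def U (a : ℤ) (g : List ℤ → ℤ) (L : List ℤ) : ℤ := if 0 < a then 0 else sh L a.natAbs g

theorem V_cons' (a : ℤ) (L : List ℤ) : V (a :: L) = U a V L := V_cons a L

theorem U_of_pos {a : ℤ} (h : 0 < a) (g : List ℤ → ℤ) (L : List ℤ) : U a g L = 0 := if_pos h

theorem U_neg (k : ℕ) (g : List ℤ → ℤ) (L : List ℤ) : U (-k) g L = sh L k g := by
  unfold U
  rw [if_neg (by omega)]; simp

theorem U_zero_fun (a : ℤ) (L : List ℤ) : U a (fun _ => 0) L = 0 := by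
  unfold U
  split_ifs
  · rfl
  · exact sh_zero _ _

theorem U_comm (a b : ℤ) (g : List ℤ → ℤ) (L : List ℤ) : U a (U b g) L = U b (U a g) L := by
  rcases lt_or_ge 0 a with ha | ha
  · rw [U_of_pos ha, show U a g = fun _ => 0 from funext fun L => U_of_pos ha g L, U_zero_fun]
  · rcases lt_or_ge 0 b with hb | hb
    · rw [U_of_pos hb, show U b g = fun _ => 0 from funext fun L => U_of_pos hb g L, U_zero_fun]
    · obtain ⟨k, rfl⟩ : ∃ k : ℕ, a = -k := ⟨a.natAbs, by omega⟩
      obtain ⟨l, rfl⟩ : ∃ l : ℕ, b = -l := ⟨b.natAbs, by omega⟩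
      have h : ∀ k : ℕ, U (-k) g = fun M => sh M k g := fun k => funext fun M => U_neg k g M
      rw [h, h, U_neg, U_neg]
      exact sh_comm _ _ _ _

theorem sum_antidiagonal_eq_Icc {R : Type*} [AddCommMonoid R] (k : ℕ) (F : ℕ → ℤ → R) :
    ∑ x ∈ antidiagonal k, F x.1 (-(x.2 : ℤ)) = ∑ i ∈ Icc (-(k : ℤ)) 0, F (i + k).toNat i := by
  refine Finset.sum_nbij' (i := fun x => -(x.2 : ℤ)) (j := fun i => ((i + k).toNat, (-i).toNat))
    ?_ ?_ ?_ ?_ ?_
  · intro x hx
    rw [mem_ad] at hx
    rw [Finset.mem_Icc]; omega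
  · intro i hi
    rw [Finset.mem_Icc] at hi
    rw [mem_ad]; dsimp only; omega
  · rintro ⟨x, y⟩ hx
    rw [mem_ad] at hx
    dsimp only at hx ⊢
    refine Prod.ext ?_ ?_
    · dsimp only; omega
    · dsimp only; omega
  · intro i hi
    rw [Finset.mem_Icc] at hi
    dsimp only; omega
  · rintro ⟨x, y⟩ hx
    rw [mem_ad] at hx
    dsimp only at hx ⊢
    congr 1; omega

theorem V_two (a b : ℤ) (L : List ℤ) :
    V (a :: b :: L) = ∑ i ∈ Icc a 0, cf (i - a).toNat * U i (U (a + b - i) V) L := by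
  rcases lt_or_ge 0 a with ha | ha
  · rw [V_cons', U_of_pos ha, Finset.Icc_eq_empty (by omega), Finset.sum_empty]
  · obtain ⟨k, rfl⟩ : ∃ k : ℕ, a = -k := ⟨a.natAbs, by omega⟩
    rw [V_cons', U_neg, sh_cons]
    have e : ∀ x ∈ antidiagonal k, cf x.1 * sh L x.2 (fun M => V ((b - x.1) :: M)) =
        cf x.1 * U (-(x.2 : ℤ)) (U (-(k : ℤ) + b - (-(x.2 : ℤ))) V) L := by
      intro x hx
      rw [U_neg]
      congr 2
      funext M
      rw [V_cons', show b - (x.1 : ℤ) = -(k : ℤ) + b - (-(x.2 : ℤ)) by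
        have := mem_ad.mp hx
        omega]
    rw [Finset.sum_congr rfl e,
      sum_antidiagonal_eq_Icc k (fun x i => cf x * U i (U (-(k : ℤ) + b - i) V) L)]
    refine Finset.sum_congr rfl fun i _ => ?_
    rw [show i - -(k : ℤ) = i + k by ring]

theorem U_inv (c : ℤ) (g : List ℤ → ℤ) (L : List ℤ) :
    ∑ i ∈ Icc c 0, sgn i * U i (U (c - i) g) L = if c = 0 then g L else 0 := by
  rcases lt_or_ge 0 c with hc | hc
  · rw [Finset.Icc_eq_empty (by omega), Finset.sum_empty, if_neg (by omega)]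
  · obtain ⟨k, rfl⟩ : ∃ k : ℕ, c = -k := ⟨c.natAbs, by omega⟩
    rw [← sum_antidiagonal_eq_Icc k (fun _ i => sgn i * U i (U (-(k : ℤ) - i) g) L)]
    have h := sh_inv L k g
    rw [← Finset.Nat.sum_antidiagonal_swap] at h
    rw [show (if -(k : ℤ) = 0 then g L else 0) = if k = 0 then g L else 0 by
      by_cases hk : k = 0
      · simp [hk]
      · rw [if_neg hk, if_neg (by omega)], ← h]
    refine Finset.sum_congr rfl fun x hx => ?_
    rw [sgn_neg, sgn_natCast, U_neg]
    congr 2
    funext M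
    rw [show -(k : ℤ) - -(x.2 : ℤ) = -(x.1 : ℤ) by
      have := mem_ad.mp hx
      omega, U_neg]
    rfl

theorem V_front (a b : ℤ) (L : List ℤ) :
    V (a :: b :: L) + V (b :: a :: L) = if a + b = 0 then 2 * sgn a * V L else 0 := by
  obtain ⟨W, hW⟩ : ∃ W : ℤ → ℤ, W = fun i => U i (U (a + b - i) V) L := ⟨_, rfl⟩
  have hW1 : ∀ i, 0 < i → W i = 0 := fun i hi => by rw [hW]; exact U_of_pos hi _ _
  have hW2 : ∀ i, W (a + b - i) = W i := by
    intro i
    rw [hW]
    dsimp only
    rw [show a + b - (a + b - i) = i by ring]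
    exact U_comm _ _ _ _
  have hW3 : ∀ i, i < a + b → W i = 0 := fun i hi => by rw [← hW2]; exact hW1 _ (by omega)
  have e1 : V (a :: b :: L) = ∑ i ∈ Icc (min a (a + b)) (max a 0),
      (if a ≤ i then cf (i - a).toNat else 0) * W i := by
    rw [V_two]
    have : ∀ i ∈ Icc a 0, cf (i - a).toNat * U i (U (a + b - i) V) L =
        (if a ≤ i then cf (i - a).toNat else 0) * W i := by
      intro i hi
      rw [Finset.mem_Icc] at hi
      rw [if_pos hi.1, hW]
    rw [Finset.sum_congr rfl this]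
    refine Finset.sum_subset (Finset.Icc_subset_Icc (min_le_left _ _) (le_max_right _ _)) ?_
    intro i _ hi
    rw [Finset.mem_Icc, not_and_or] at hi
    rcases hi with hi | hi
    · rw [if_neg hi, zero_mul]
    · rw [hW1 i (by omega), mul_zero]
  have e2 : V (b :: a :: L) = ∑ i ∈ Icc (min a (a + b)) (max a 0),
      (if i ≤ a then cf (a - i).toNat else 0) * W i := by
    rw [V_two]
    have h1 : ∑ i ∈ Icc b 0, cf (i - b).toNat * U i (U (b + a - i) V) L =
        ∑ i ∈ Icc (a + b) a, (if i ≤ a then cf (a - i).toNat else 0) * W i := by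
      refine Finset.sum_nbij' (i := fun i => a + b - i) (j := fun i => a + b - i) ?_ ?_ ?_ ?_ ?_
      · intro i hi
        rw [Finset.mem_Icc] at hi ⊢; omega
      · intro i hi
        rw [Finset.mem_Icc] at hi ⊢; omega
      · intro i _; ring
      · intro i _; ring
      · intro i hi
        rw [Finset.mem_Icc] at hi
        rw [if_pos (by omega), hW2, hW, show a - (a + b - i) = i - b by ring,
          show b + a - i = a + b - i by ring]
    rw [h1]
    refine Finset.sum_subset (Finset.Icc_subset_Icc (min_le_right _ _) (le_max_left _ _)) ?_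
    intro i _ hi
    rw [Finset.mem_Icc, not_and_or] at hi
    rcases hi with hi | hi
    · rw [hW3 i (by omega), mul_zero]
    · rw [if_neg hi, zero_mul]
  have e3 : ∀ i, (if a ≤ i then cf (i - a).toNat else 0) * W i +
      (if i ≤ a then cf (a - i).toNat else 0) * W i = 2 * sgn a * (sgn i * W i) := by
    intro i
    rcases lt_trichotomy i a with h | h | h
    · rw [if_neg (by omega), if_pos h.le, cf_eq (by omega), show (((a - i).toNat : ℕ) : ℤ) = a - i by omega,
        sgn_sub]; ring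
    · subst h
      rw [if_pos le_rfl, sub_self]
      have := sgn_mul_self i
      simp only [Int.toNat_zero, cf_zero]
      linear_combination (-2 * W i) * this
    · rw [if_pos h.le, if_neg (by omega), cf_eq (by omega), show (((i - a).toNat : ℕ) : ℤ) = i - a by omega,
        sgn_sub]; ring
  rw [e1, e2, ← Finset.sum_add_distrib, Finset.sum_congr rfl fun i _ => e3 i, ← Finset.mul_sum]
  have e4 : ∑ i ∈ Icc (min a (a + b)) (max a 0), sgn i * W i = ∑ i ∈ Icc (a + b) 0, sgn i * W i := by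
    symm
    refine Finset.sum_subset (Finset.Icc_subset_Icc (min_le_right _ _) (le_max_right _ _)) ?_
    intro i _ hi
    rw [Finset.mem_Icc, not_and_or] at hi
    rcases hi with hi | hi
    · rw [hW3 i (by omega), mul_zero]
    · rw [hW1 i (by omega), mul_zero]
  rw [e4, hW, U_inv]
  split_ifs <;> ring

/-- **The Clifford relation for `V`.** -/
theorem V_swap (L₁ : List ℤ) (a b : ℤ) (L₂ : List ℤ) :
    V (L₁ ++ a :: b :: L₂) + V (L₁ ++ b :: a :: L₂) =
      if a + b = 0 then 2 * sgn a * V (L₁ ++ L₂) else 0 := by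
  have key : ∀ n n₂ : ℕ, Cliff V V n n₂ := by
    intro n
    induction n with
    | zero =>
      intro n₂ M₁ x y M₂ h1 _
      obtain rfl : M₁ = [] := List.length_eq_zero_iff.mp h1
      exact V_front _ _ _
    | succ n ih =>
      intro n₂ M₁ x y M₂ h1 h2
      obtain ⟨c, M₁, rfl⟩ : ∃ c L, M₁ = c :: L := List.exists_cons_of_length_eq_add_one h1
      simp only [List.cons_append]
      rw [V_cons, V_cons, V_cons]
      by_cases hc : 0 < c
      · rw [if_pos hc, if_pos hc, if_pos hc]; simp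
      · rw [if_neg hc, if_neg hc, if_neg hc]
        exact sh_adj (ih n₂) _ M₁ x y M₂ (by simpa using h1) h2
  exact key _ _ L₁ a b L₂ rfl rfl

theorem sh_append_neg {g : List ℤ → ℤ} {n : ℕ}
    (hg : ∀ (M : List ℤ) (c : ℤ), M.length = n → c < 0 → g (M ++ [c]) = 0) (L : List ℤ) (u : ℕ)
    (hL : L.length = n) {c : ℤ} (hc : c < 0) : sh (L ++ [c]) u g = 0 := by
  induction L generalizing g n u with
  | nil =>
    rw [List.nil_append, sh_cons]
    refine Finset.sum_eq_zero fun x _ => ?_
    rw [sh_nil]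
    split_ifs
    · have := hg [] (c - x.1) hL (by omega)
      rw [List.nil_append] at this
      rw [this, mul_zero]
    · rw [mul_zero]
  | cons b L ih =>
    rw [List.cons_append, sh_cons]
    refine Finset.sum_eq_zero fun x _ => ?_
    obtain ⟨n, rfl⟩ : ∃ n', n = n' + 1 := ⟨L.length, by simpa using hL.symm⟩
    rw [ih (g := fun M => g ((b - x.1) :: M)) (n := n)
      (fun M c h1 h2 => hg ((b - x.1) :: M) c (by simp [h1]) h2) _ (by simpa using hL), mul_zero]

theorem V_append_neg (L : List ℤ) {c : ℤ} (hc : c < 0) : V (L ++ [c]) = 0 := by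
  have key : ∀ n : ℕ, ∀ (M : List ℤ) (c : ℤ), M.length = n → c < 0 → V (M ++ [c]) = 0 := by
    intro n
    induction n with
    | zero =>
      intro M c h1 h2
      obtain rfl : M = [] := List.length_eq_zero_iff.mp h1
      rw [List.nil_append, V_cons, if_neg (by omega), sh_nil, if_neg (by omega)]
    | succ n ih =>
      intro M c h1 h2
      obtain ⟨a, M, rfl⟩ : ∃ c L, M = c :: L := List.exists_cons_of_length_eq_add_one h1
      rw [List.cons_append, V_cons]
      split_ifs
      · rfl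
      · exact sh_append_neg ih _ _ (by simpa using h1) h2
  exact key _ L c rfl hc

theorem sh_append_zero {g : List ℤ → ℤ} {n : ℕ}
    (hg : ∀ (M : List ℤ) (c : ℤ), M.length = n → c < 0 → g (M ++ [c]) = 0)
    (hg0 : ∀ M : List ℤ, M.length = n → g (M ++ [0]) = g M) (L : List ℤ) (u : ℕ)
    (hL : L.length = n) : sh (L ++ [0]) u g = sh L u g := by
  induction L generalizing g n u with
  | nil =>
    rw [List.nil_append, sh_cons, Finset.sum_eq_single (0, u)]
    · rw [sh_nil, sh_nil]
      have := hg0 [] hL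
      rw [List.nil_append] at this
      simp [this]
    · rintro ⟨i, j⟩ hx hne
      have hi : i ≠ 0 := by
        rintro rfl
        rw [mem_ad] at hx
        exact hne (by simp at hx; rw [hx])
      rw [sh_nil]
      split_ifs
      · have := hg [] (0 - (i : ℤ)) hL (by omega)
        rw [List.nil_append] at this
        rw [this, mul_zero]
      · rw [mul_zero]
    · intro h; exact absurd (by simp) h
  | cons b L ih =>
    rw [List.cons_append, sh_cons, sh_cons]
    refine Finset.sum_congr rfl fun x _ => ?_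
    obtain ⟨n, rfl⟩ : ∃ n', n = n' + 1 := ⟨L.length, by simpa using hL.symm⟩
    rw [ih (g := fun M => g ((b - x.1) :: M)) (n := n)
      (fun M c h1 h2 => hg ((b - x.1) :: M) c (by simp [h1]) h2)
      (fun M h1 => hg0 ((b - x.1) :: M) (by simp [h1])) _ (by simpa using hL)]

theorem V_append_zero (L : List ℤ) : V (L ++ [0]) = V L := by
  have key : ∀ n : ℕ, ∀ M : List ℤ, M.length = n → V (M ++ [0]) = V M := by
    intro n
    induction n with
    | zero =>
      intro M h1
      obtain rfl : M = [] := List.length_eq_zero_iff.mp h1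
      rw [List.nil_append, V_cons, if_neg (by omega), sh_nil]; rfl
    | succ n ih =>
      intro M h1
      obtain ⟨a, M, rfl⟩ : ∃ c L, M = c :: L := List.exists_cons_of_length_eq_add_one h1
      rw [List.cons_append, V_cons, V_cons]
      split_ifs
      · rfl
      · exact sh_append_zero (fun M c _ h => V_append_neg M h) ih _ _ (by simpa using h1)
  exact key _ L rfl

theorem sh_of_sum {g : List ℤ → ℤ} {L : List ℤ} {u : ℕ} {c : ℤ}
    (hg : ∀ M : List ℤ, M.length = L.length → M.sum ≠ c → g M = 0) (h : L.sum ≠ c + u) :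
    sh L u g = 0 := by
  induction L generalizing g u c with
  | nil =>
    rw [sh_nil]
    split_ifs with hu
    · subst hu
      exact hg [] rfl (by simpa using h)
    · rfl
  | cons b L ih =>
    rw [sh_cons]
    refine Finset.sum_eq_zero fun x hx => ?_
    rw [ih (g := fun M => g ((b - x.1) :: M)) (c := c - (b - x.1)), mul_zero]
    · intro M h1 h2
      refine hg _ (by simp [h1]) ?_
      rw [List.sum_cons]; omega
    · rw [List.sum_cons] at h
      have := mem_ad.mp hx
      omega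

theorem V_eq_zero_of_sum (L : List ℤ) (h : L.sum ≠ 0) : V L = 0 := by
  have key : ∀ n : ℕ, ∀ M : List ℤ, M.length = n → M.sum ≠ 0 → V M = 0 := by
    intro n
    induction n with
    | zero =>
      intro M h1 h2
      obtain rfl : M = [] := List.length_eq_zero_iff.mp h1
      exact absurd rfl h2
    | succ n ih =>
      intro M h1 h2
      obtain ⟨a, M, rfl⟩ : ∃ c L, M = c :: L := List.exists_cons_of_length_eq_add_one h1
      rw [V_cons]
      split_ifs with ha
      · rfl
      · refine sh_of_sum (c := 0) (fun K hK => ih K (by rw [hK]; simpa using h1)) ?_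
        rw [List.sum_cons] at h2
        omega
  exact key _ L rfl h

end Cfsg.Agent.H614.Spin
end

-- part: H614/Spin/Basic
section
/-!
# Spin combinatorics: the functions `X s`

The Clifford relation (`X_swap`) and the vacuum relations (`X_append_neg`, `X_append_zero`) for all
multisets `s` of odd numbers.
-/

set_option autoImplicit false

namespace Cfsg.Agent.H614.Spin

open Finset

/-- the full Clifford relation for a function on lists -/
def Clif (g : List ℤ → ℤ) : Prop :=
  ∀ (M₁ : List ℤ) (x y : ℤ) (M₂ : List ℤ), g (M₁ ++ x :: y :: M₂) + g (M₁ ++ y :: x :: M₂) =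
      if x + y = 0 then 2 * sgn x * g (M₁ ++ M₂) else 0

theorem clif_V : Clif V := V_swap

theorem clif_dl {g : List ℤ → ℤ} (hg : Clif g) {r : ℤ} (hr : Odd r) : Clif (dl r g) := by
  intro L₁ a b L₂
  have e : ∀ x y : ℤ, dl r g (L₁ ++ x :: y :: L₂) = dl r (fun K => g (K ++ x :: y :: L₂)) L₁ +
      (g (L₁ ++ (x - r) :: y :: L₂) + (g (L₁ ++ x :: (y - r) :: L₂) +
        dl r (fun K => g (L₁ ++ x :: y :: K)) L₂)) := by
    intro x y
    rw [dl_append, dl_cons, dl_cons]
  obtain ⟨c, hc⟩ : ∃ c : ℤ, c = if a + b = 0 then 2 * sgn a else 0 := ⟨_, rfl⟩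
  have hc' : ∀ w : ℤ, (if a + b = 0 then 2 * sgn a * w else 0) = c * w := by
    intro w; rw [hc]; split_ifs <;> ring
  have h1 : dl r (fun K => g (K ++ a :: b :: L₂)) L₁ + dl r (fun K => g (K ++ b :: a :: L₂)) L₁ =
      c * dl r (fun K => g (K ++ L₂)) L₁ := by
    rw [← dl_add, ← dl_mul]
    congr 1
    funext K
    rw [hg, hc']
  have h2 : dl r (fun K => g (L₁ ++ a :: b :: K)) L₂ + dl r (fun K => g (L₁ ++ b :: a :: K)) L₂ =
      c * dl r (fun K => g (L₁ ++ K)) L₂ := by
    rw [← dl_add, ← dl_mul]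
    congr 1
    funext K
    rw [hg, hc']
  have h3 := hg L₁ (a - r) b L₂
  have h4 := hg L₁ a (b - r) L₂
  have h5 : (if a - r + b = 0 then 2 * sgn (a - r) * g (L₁ ++ L₂) else 0) +
      (if a + (b - r) = 0 then 2 * sgn a * g (L₁ ++ L₂) else 0) = 0 := by
    rw [sgn_sub, sgn_odd hr, show a - r + b = a + (b - r) by ring]
    split_ifs <;> ring
  have h6 : dl r (fun K => g (K ++ L₂)) L₁ + dl r (fun K => g (L₁ ++ K)) L₂ =
      dl r g (L₁ ++ L₂) := (dl_append _ _ _ _).symm
  rw [e, e, hc']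
  linear_combination h1 + h2 + h3 + h4 + h5 + c * h6

theorem clif_X {s : Multiset ℕ} (hs : ∀ i ∈ s, Odd i) : Clif (X s) := by
  induction s using Multiset.induction_on with
  | empty => exact clif_V
  | cons r s ih =>
    have h1 : X (r ::ₘ s) = dl r (X s) := funext fun L => X_cons r s L
    rw [h1]
    refine clif_dl (ih fun i hi => hs i (Multiset.mem_cons_of_mem hi)) ?_
    exact_mod_cast hs r (Multiset.mem_cons_self _ _)

theorem X_swap {s : Multiset ℕ} (hs : ∀ i ∈ s, Odd i) (L₁ : List ℤ) (a b : ℤ) (L₂ : List ℤ) :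
    X s (L₁ ++ a :: b :: L₂) + X s (L₁ ++ b :: a :: L₂) =
      if a + b = 0 then 2 * (-1) ^ a.natAbs * X s (L₁ ++ L₂) else 0 := clif_X hs L₁ a b L₂

theorem X_append_neg (s : Multiset ℕ) (L : List ℤ) {c : ℤ} (hc : c < 0) : X s (L ++ [c]) = 0 := by
  induction s using Multiset.induction_on generalizing L c with
  | empty => exact V_append_neg L hc
  | cons r s ih =>
    rw [X_cons, dl_append, dl_cons, dl_nil, ih L (c := c - r) (by omega)]
    have : dl (r : ℤ) (fun K => X s (K ++ [c])) L = dl (r : ℤ) (fun _ => 0) L := by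
      congr 1; funext K; exact ih K hc
    rw [this, dl_zero]; rfl

theorem X_append_zero (s : Multiset ℕ) (hs : ∀ i ∈ s, 0 < i) (L : List ℤ) :
    X s (L ++ [0]) = X s L := by
  induction s using Multiset.induction_on generalizing L with
  | empty => exact V_append_zero L
  | cons r s ih =>
    have hr := hs r (Multiset.mem_cons_self _ _)
    rw [X_cons, X_cons, dl_append, dl_cons, dl_nil, X_append_neg s L (c := 0 - r) (by omega)]
    have : dl (r : ℤ) (fun K => X s (K ++ [0])) L = dl (r : ℤ) (X s) L := by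
      congr 1; funext K; exact ih (fun i hi => hs i (Multiset.mem_cons_of_mem hi)) K
    rw [this]; ring

theorem dl_of_sum {g : List ℤ → ℤ} {r c : ℤ} (hg : ∀ M : List ℤ, M.sum ≠ c → g M = 0)
    {L : List ℤ} (h : L.sum ≠ c + r) : dl r g L = 0 := by
  induction L generalizing g c with
  | nil => rfl
  | cons b L ih =>
    rw [List.sum_cons] at h
    rw [dl_cons, hg _ (by rw [List.sum_cons]; omega),
      ih (g := fun M => g (b :: M)) (c := c - b) (fun M hM => hg _ (by rw [List.sum_cons]; omega))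
        (by omega), add_zero]

theorem X_eq_zero_of_sum (s : Multiset ℕ) (L : List ℤ) (h : L.sum ≠ s.sum) : X s L = 0 := by
  induction s using Multiset.induction_on generalizing L with
  | empty => exact V_eq_zero_of_sum L (by simpa using h)
  | cons r s ih =>
    rw [X_cons]
    refine dl_of_sum (c := s.sum) (fun M hM => ih M hM) ?_
    rw [Multiset.sum_cons, Nat.cast_add] at h
    omega

end Cfsg.Agent.H614.Spin
end
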