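import Mathlib
set_option linter.all false

/-!
# Spin combinatorics: definitions (statement S4578)

* `cf k` : the coefficient of `t ^ k` in `(1 - t) / (1 + t)`;
* `sh L u g` : `∑ ∏ cf k_i * g (L - k)` over all `k` with `∑ k_i = u`;
* `V L` : the coefficient of `x ^ L` in `∏_{i < j} (x_i - x_j) / (x_i + x_j)` (expanded in `x_j / x_i`);
* `dl r g L` : `∑_i g (L - r e_i)`;
* `X s L` : the coefficient of `x ^ L` in `∏_{r ∈ s} p_r * ∏_{i < j} (x_i - x_j) / (x_i + x_j)`.
-/

set_option autoImplicit false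

namespace Cfsg.Agent.H614.Spin

open Finset

/-- the coefficients of `(1 - t) / (1 + t)` -/
def cf (k : ℕ) : ℤ := if k = 0 then 1 else 2 * (-1) ^ k

@[simp] theorem cf_zero : cf 0 = 1 := rfl

theorem cf_pos {k : ℕ} (h : k ≠ 0) : cf k = 2 * (-1) ^ k := if_neg h

/-- `∑ ∏ cf k_i * g (L - k)` over all `k` with `∑ k_i = u` -/
def sh : List ℤ → ℕ → (List ℤ → ℤ) → ℤ
  | [], u, g => if u = 0 then g [] else 0
  | b :: L, u, g => ∑ x ∈ antidiagonal u, cf x.1 * sh L x.2 (fun M => g ((b - x.1) :: M))

theorem sh_nil (u : ℕ) (g : List ℤ → ℤ) : sh [] u g = if u = 0 then g [] else 0 := rfl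

theorem sh_cons (b : ℤ) (L : List ℤ) (u : ℕ) (g : List ℤ → ℤ) :
    sh (b :: L) u g = ∑ x ∈ antidiagonal u, cf x.1 * sh L x.2 (fun M => g ((b - x.1) :: M)) := rfl

/-- the vacuum function on lists of length `m` -/
def Vn : ℕ → List ℤ → ℤ
  | 0, _ => 1
  | _ + 1, [] => 1
  | m + 1, a :: L => if 0 < a then 0 else sh L a.natAbs (Vn m)

/-- the coefficient of `x ^ L` in `∏_{i < j} (x_i - x_j) / (x_i + x_j)` -/
def V (L : List ℤ) : ℤ := Vn L.length L

theorem V_nil : V [] = 1 := rfl

theorem sh_congr {L : List ℤ} {u : ℕ} {g g' : List ℤ → ℤ}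
    (h : ∀ M : List ℤ, M.length = L.length → g M = g' M) : sh L u g = sh L u g' := by
  induction L generalizing u g g' with
  | nil => rw [sh_nil, sh_nil, h [] rfl]
  | cons b L ih =>
    rw [sh_cons, sh_cons]
    refine Finset.sum_congr rfl fun x _ => ?_
    rw [ih fun M hM => h _ (by simp [hM])]

theorem V_cons (a : ℤ) (L : List ℤ) : V (a :: L) = if 0 < a then 0 else sh L a.natAbs V := by
  unfold V
  rw [List.length_cons]
  change (if 0 < a then 0 else sh L a.natAbs (Vn L.length)) = _
  congr 1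
  refine sh_congr fun M hM => ?_
  rw [hM]

/-- `∑_i g (L - r e_i)` -/
def dl (r : ℤ) (g : List ℤ → ℤ) : List ℤ → ℤ
  | [] => 0
  | a :: L => g ((a - r) :: L) + dl r (fun M => g (a :: M)) L

@[simp] theorem dl_nil (r : ℤ) (g : List ℤ → ℤ) : dl r g [] = 0 := rfl

theorem dl_cons (r : ℤ) (g : List ℤ → ℤ) (a : ℤ) (L : List ℤ) :
    dl r g (a :: L) = g ((a - r) :: L) + dl r (fun M => g (a :: M)) L := rfl

theorem dl_congr {r : ℤ} {L : List ℤ} {g g' : List ℤ → ℤ}
    (h : ∀ M : List ℤ, M.length = L.length → g M = g' M) : dl r g L = dl r g' L := by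
  induction L generalizing g g' with
  | nil => rfl
  | cons b L ih =>
    rw [dl_cons, dl_cons, h _ (by simp), ih fun M hM => h _ (by simp [hM])]

theorem dl_add (r : ℤ) (g g' : List ℤ → ℤ) (L : List ℤ) :
    dl r (fun M => g M + g' M) L = dl r g L + dl r g' L := by
  induction L generalizing g g' with
  | nil => simp
  | cons b L ih => rw [dl_cons, dl_cons, dl_cons, ih]; ring

theorem dl_mul (r c : ℤ) (g : List ℤ → ℤ) (L : List ℤ) :
    dl r (fun M => c * g M) L = c * dl r g L := by
  induction L generalizing g with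
  | nil => simp
  | cons b L ih => rw [dl_cons, dl_cons, ih]; ring

theorem dl_zero (r : ℤ) (L : List ℤ) : dl r (fun _ => 0) L = 0 := by
  have := dl_mul r 0 (fun _ => 0) L
  simpa using this

theorem dl_sum {ι : Type*} (r : ℤ) (t : Finset ι) (g : ι → List ℤ → ℤ) (L : List ℤ) :
    dl r (fun M => ∑ i ∈ t, g i M) L = ∑ i ∈ t, dl r (g i) L := by
  classical
  induction t using Finset.induction_on with
  | empty => simp [dl_zero]
  | insert a t ha ih => simp only [Finset.sum_insert ha]; rw [dl_add, ih]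

theorem dl_append (r : ℤ) (g : List ℤ → ℤ) (L M : List ℤ) :
    dl r g (L ++ M) = dl r (fun K => g (K ++ M)) L + dl r (fun K => g (L ++ K)) M := by
  induction L generalizing g with
  | nil => simp
  | cons b L ih =>
    rw [List.cons_append, dl_cons, dl_cons, ih]
    simp only [List.cons_append]
    ring

theorem dl_comm (r s : ℤ) (g : List ℤ → ℤ) (L : List ℤ) : dl r (dl s g) L = dl s (dl r g) L := by
  induction L generalizing g with
  | nil => simp
  | cons b L ih =>
    have e : ∀ t t' : ℤ, dl t (dl t' g) (b :: L) =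
        g ((b - t - t') :: L) + dl t' (fun M => g ((b - t) :: M)) L +
          (dl t (fun M => g ((b - t') :: M)) L + dl t (dl t' (fun M => g (b :: M))) L) := by
      intro t t'
      rw [dl_cons, dl_cons]
      simp only [dl_cons]
      rw [dl_add]
    rw [e, e, ih, show b - r - s = b - s - r by ring]
    ring

/-- `X` for lists of cycle lengths -/
def XL : List ℕ → List ℤ → ℤ
  | [], L => V L
  | r :: s, L => dl r (XL s) L

theorem XL_perm {s s' : List ℕ} (h : s.Perm s') : XL s = XL s' := by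
  induction h with
  | nil => rfl
  | cons r _ ih => funext L; change dl r _ L = dl r _ L; rw [ih]
  | swap r t l => funext L; exact dl_comm _ _ _ _
  | trans _ _ ih1 ih2 => exact ih1.trans ih2

/-- the coefficient of `x ^ L` in `∏_{r ∈ s} p_r * ∏_{i < j} (x_i - x_j) / (x_i + x_j)` -/
def X (s : Multiset ℕ) (L : List ℤ) : ℤ :=
  Quot.lift (fun ν : List ℕ => XL ν L) (fun _ _ h => congrFun (XL_perm h) L) s

theorem X_zero (L : List ℤ) : X 0 L = V L := rfl

theorem X_cons (r : ℕ) (s : Multiset ℕ) (L : List ℤ) : X (r ::ₘ s) L = dl r (X s) L := by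
  induction s using Quotient.inductionOn with
  | h ν => rfl

/-- strict partitions, as lists -/
def Strict (L : List ℤ) : Prop := L.Pairwise (fun a b => b < a) ∧ ∀ a ∈ L, 0 < a

end Cfsg.Agent.H614.Spin
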